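import Mathlib.Algebra.Module.FinitePresentation
import Mathlib.RingTheory.IsTensorProduct
import Mathlib.RingTheory.Localization.Away.Basic
import Mathlib.Algebra.Module.LocalizedModule.IsLocalization
import Mathlib.LinearAlgebra.TensorProduct.RightExactness

/-!
# Modules with boundedly many generators and relations
-/

universe u

open TensorProduct

namespace Groth.Agent.ProdFP7

/-- `M` is generated by `n` elements and the relations among them by `m` elements. -/
def Pres (R : Type*) [CommRing R] (M : Type*) [AddCommGroup M] [Module R M] (n m : ℕ) : Prop :=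
  ∃ (φ : (Fin m → R) →ₗ[R] (Fin n → R)) (ψ : (Fin n → R) →ₗ[R] M),
    Function.Exact φ ψ ∧ Function.Surjective ψ

theorem exists_pres (R : Type*) [CommRing R] (M : Type*) [AddCommGroup M] [Module R M]
    [Module.FinitePresentation R M] : ∃ n m, Pres R M n m := by
  obtain ⟨n, ψ, hψ⟩ := Module.Finite.exists_fin' R M
  haveI := Module.Finite.of_fg (Module.FinitePresentation.fg_ker ψ hψ)
  obtain ⟨m, φ, hφ⟩ := Module.Finite.exists_fin' R (LinearMap.ker ψ)
  refine ⟨n, m, (LinearMap.ker ψ).subtype ∘ₗ φ, ψ, ?_, hψ⟩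
  rw [LinearMap.exact_iff, LinearMap.range_comp, LinearMap.range_eq_top.2 hφ, Submodule.map_top,
    Submodule.range_subtype]

theorem Pres.of_isBaseChange {R S : Type u} [CommRing R] [CommRing S] [Algebra R S] {M N : Type u}
    [AddCommGroup M] [AddCommGroup N] [Module R M] [Module R N] [Module S N] [IsScalarTower R S N]
    {l : M →ₗ[R] N} (hl : IsBaseChange S l) {n m : ℕ} (h : Pres R M n m) : Pres S N n m := by
  obtain ⟨φ, ψ, hex, hψ⟩ := h
  let e : ∀ k : ℕ, S ⊗[R] (Fin k → R) ≃ₗ[S] (Fin k → S) := fun k =>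
    TensorProduct.piScalarRight R S S (Fin k)
  have hex' : Function.Exact (φ.baseChange S) (ψ.baseChange S) := by
    have := lTensor_exact S hex hψ
    intro x
    exact this x
  have hψ' : Function.Surjective (ψ.baseChange S) := LinearMap.lTensor_surjective S hψ
  refine ⟨(e n).toLinearMap ∘ₗ φ.baseChange S ∘ₗ (e m).symm.toLinearMap,
    hl.equiv.toLinearMap ∘ₗ ψ.baseChange S ∘ₗ (e n).symm.toLinearMap, ?_,
    hl.equiv.surjective.comp (hψ'.comp (e n).symm.surjective)⟩
  intro x
  constructor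
  · intro hx
    obtain ⟨y, hy⟩ := (hex' ((e n).symm x)).1 (hl.equiv.injective (by simpa using hx))
    exact ⟨e m y, by simp [hy]⟩
  · rintro ⟨y, rfl⟩
    simp [hex'.apply_apply_eq_zero]

/-- Schanuel: relations among other generators. -/
theorem Pres.exists_ker_span {R : Type*} [CommRing R] {M : Type*} [AddCommGroup M] [Module R M]
    {n m p : ℕ} (h : Pres R M n m) (π : (Fin p → R) →ₗ[R] M) (hπ : Function.Surjective π) :
    ∃ g : Fin m ⊕ Fin p → (Fin p → R), LinearMap.ker π = Submodule.span R (Set.range g) := by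
  obtain ⟨φ, ψ, hex, hψ⟩ := h
  obtain ⟨α, hα⟩ := Module.projective_lifting_property ψ π hψ
  obtain ⟨β, hβ⟩ := Module.projective_lifting_property π ψ hπ
  have hα' : ∀ x, ψ (α x) = π x := fun x => LinearMap.congr_fun hα x
  have hβ' : ∀ x, π (β x) = ψ x := fun x => LinearMap.congr_fun hβ x
  refine ⟨Sum.elim (fun k => β (φ (Pi.single k 1))) (fun k => Pi.single k 1 - β (α (Pi.single k 1))),
    le_antisymm (fun x hx => ?_) (Submodule.span_le.2 ?_)⟩
  · have hx' : ψ (α x) = 0 := by rw [hα']; exact hx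
    obtain ⟨y, hy⟩ := (hex _).1 hx'
    have h1 : ∀ z : Fin p → R, z - β (α z) ∈ Submodule.span R (Set.range (Sum.elim
        (fun k => β (φ (Pi.single k 1))) (fun k => Pi.single k 1 - β (α (Pi.single k 1))))) := by
      intro z
      rw [show z - β (α z) = (LinearMap.id - β ∘ₗ α : (Fin p → R) →ₗ[R] (Fin p → R)) z from rfl,
        pi_eq_sum_univ' z, map_sum]
      refine Submodule.sum_mem _ fun k _ => ?_
      rw [map_smul]
      exact Submodule.smul_mem _ _ (Submodule.subset_span ⟨Sum.inr k, rfl⟩)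
    have h2 : β (φ y) ∈ Submodule.span R (Set.range (Sum.elim
        (fun k => β (φ (Pi.single k 1))) (fun k => Pi.single k 1 - β (α (Pi.single k 1))))) := by
      rw [pi_eq_sum_univ' y, map_sum, map_sum]
      refine Submodule.sum_mem _ fun k _ => ?_
      rw [map_smul, map_smul]
      exact Submodule.smul_mem _ _ (Submodule.subset_span ⟨Sum.inl k, rfl⟩)
    have := Submodule.add_mem _ (h1 x) h2
    rwa [hy, sub_add_cancel] at this
  · rintro _ ⟨k | k, rfl⟩
    · simp [hβ', hex.apply_apply_eq_zero]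
    · simp [hα', hβ']

theorem exists_smul_eq_of_mem_span {R S : Type*} [CommRing R] [CommRing S] [Algebra R S] (T : Submonoid R)
    [IsLocalization T S] {M N : Type*} [AddCommGroup M] [AddCommGroup N] [Module R M] [Module R N]
    [Module S N] [IsScalarTower R S N] (f : M →ₗ[R] N) (W : Submodule R M) {y : N}
    (hy : y ∈ Submodule.span S (f '' (W : Set M))) : ∃ w ∈ W, ∃ t : T, (t : R) • y = f w := by
  induction hy using Submodule.span_induction with
  | mem y hy =>
    obtain ⟨w, hw, rfl⟩ := hy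
    exact ⟨w, hw, 1, one_smul _ _⟩
  | zero => exact ⟨0, W.zero_mem, 1, by simp⟩
  | add y z _ _ h₁ h₂ =>
    obtain ⟨w, hw, t, ht⟩ := h₁
    obtain ⟨w', hw', t', ht'⟩ := h₂
    refine ⟨(t' : R) • w + (t : R) • w', W.add_mem (W.smul_mem _ hw) (W.smul_mem _ hw'), t * t', ?_⟩
    rw [map_add, map_smul, map_smul, ← ht, ← ht', Submonoid.coe_mul, smul_add, smul_smul, smul_smul,
      mul_comm (t' : R)]
  | smul s y _ h =>
    obtain ⟨w, hw, t, ht⟩ := h
    obtain ⟨⟨r, t'⟩, hr⟩ := IsLocalization.surj T s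
    refine ⟨r • w, W.smul_mem _ hw, t * t', ?_⟩
    rw [map_smul, ← ht, Submonoid.coe_mul, ← algebraMap_smul S r, ← algebraMap_smul S ((t : R) * t'),
      ← algebraMap_smul S (t : R) y, smul_smul, smul_smul, map_mul]
    congr 1
    rw [← hr]; ring

section local2global

variable {R : Type u} [CommRing R] {M : Type u} [AddCommGroup M] [Module R M] {J : Type*} [Fintype J]
  (a : J → R) (ha : Ideal.span (Set.range a) = ⊤)
  (S : J → Type u) [∀ j, CommRing (S j)] [∀ j, Algebra R (S j)] [∀ j, IsLocalization.Away (a j) (S j)]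
  (N : J → Type u) [∀ j, AddCommGroup (N j)] [∀ j, Module R (N j)] [∀ j, Module (S j) (N j)]
  [∀ j, IsScalarTower R (S j) (N j)]
  (l : ∀ j, M →ₗ[R] N j) [∀ j, IsLocalizedModule (Submonoid.powers (a j)) (l j)]

omit [Fintype J] in
include ha in
theorem mem_of_forall_pow_smul_mem (W : Submodule R M) (x : M) (h : ∀ j, ∃ k : ℕ, a j ^ k • x ∈ W) :
    x ∈ W := by
  refine Submodule.mem_of_span_eq_top_of_smul_pow_mem W (Set.range a) ha x ?_
  rintro ⟨_, j, rfl⟩
  exact h j

include ha l in
/-- Boundedly presented locally on a finite cover is boundedly presented. -/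
theorem exists_gens_and_ker_span {n m : J → ℕ} (h : ∀ j, Pres (S j) (N j) (n j) (m j)) :
    ∃ π : (Fin (∑ j, n j) → R) →ₗ[R] M, Function.Surjective π ∧
      ∃ g : (Σ j, Fin (m j) ⊕ Fin (∑ j, n j)) → (Fin (∑ j, n j) → R),
        LinearMap.ker π = Submodule.span R (Set.range g) := by
  choose φ ψ hex hψ using h
  let p := ∑ j, n j
  let e : Fin p ≃ Σ j, Fin (n j) := Fintype.equivOfCardEq (by simp [p])
  have hnum : ∀ j k, ∃ x : M × Submonoid.powers (a j), x.2 • ψ j (Pi.single k 1) = l j x.1 :=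
    fun j k => IsLocalizedModule.surj _ (l j) _
  choose x hx using hnum
  let π : (Fin p → R) →ₗ[R] M := (Pi.basisFun R (Fin p)).constr R fun k => (x (e k).1 (e k).2).1
  have hπ' : ∀ k, π (Pi.single k 1) = (x (e k).1 (e k).2).1 := fun k => by
    rw [← Pi.basisFun_apply]; exact Module.Basis.constr_basis _ _ _ _
  have hπ : Function.Surjective π := by
    intro y
    refine mem_of_forall_pow_smul_mem a ha (LinearMap.range π) y fun j => ?_
    -- the image of `y` in `N j`
    obtain ⟨c, hc⟩ := hψ j (l j y)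
    have hmem : l j y ∈ Submodule.span (S j) (l j '' (LinearMap.range π : Set M)) := by
      rw [← hc, pi_eq_sum_univ' c, map_sum]
      refine Submodule.sum_mem _ fun k _ => ?_
      rw [map_smul]
      refine Submodule.smul_mem _ _ ?_
      have hu : IsUnit (algebraMap R (S j) ((x j k).2 : R)) := IsLocalization.map_units (S j) (x j k).2
      have h1 : ψ j (Pi.single k 1) = (↑hu.unit⁻¹ : S j) • l j (x j k).1 := by
        rw [← hx j k, Submonoid.smul_def, ← algebraMap_smul (S j) ((x j k).2 : R), ← mul_smul,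
          IsUnit.val_inv_mul, one_smul]
      rw [h1]
      exact Submodule.smul_mem _ _ (Submodule.subset_span ⟨_, ⟨Pi.single (e.symm ⟨j, k⟩) 1, by
        rw [hπ']
        exact congrArg (fun q : Σ j, Fin (n j) => (x q.1 q.2).1) (e.apply_symm_apply ⟨j, k⟩)⟩, rfl⟩)
    obtain ⟨z, hz, t, ht⟩ := exists_smul_eq_of_mem_span (Submonoid.powers (a j)) (l j) _ hmem
    rw [← map_smul] at ht
    obtain ⟨⟨s, k₀, rfl⟩, hs⟩ := IsLocalizedModule.exists_of_eq (S := Submonoid.powers (a j)) (f := l j) ht
    obtain ⟨_, i, rfl⟩ := t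
    refine ⟨k₀ + i, ?_⟩
    simp only [Submonoid.smul_def] at hs
    rw [pow_add, mul_smul, hs]
    exact Submodule.smul_mem _ _ hz
  refine ⟨π, hπ, ?_⟩
  -- the local maps
  let ρ : ∀ j, (Fin p → R) →ₗ[R] (Fin p → S j) := fun j =>
    LinearMap.pi fun k => Algebra.linearMap R (S j) ∘ₗ LinearMap.proj k
  let πj : ∀ j, (Fin p → S j) →ₗ[S j] N j := fun j =>
    (Pi.basisFun (S j) (Fin p)).constr (S j) fun k => l j (π (Pi.single k 1))
  have hcomm : ∀ j z, πj j (ρ j z) = l j (π z) := by
    intro j z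
    rw [pi_eq_sum_univ' z, map_sum, map_sum, map_sum, map_sum]
    refine Finset.sum_congr rfl fun k _ => ?_
    have h1 : ρ j (Pi.single k 1) = Pi.single k 1 := by
      ext i; simp [ρ, Pi.single_apply, apply_ite (algebraMap R (S j))]
    rw [map_smul (ρ j), map_smul π, map_smul (l j), h1, LinearMap.map_smul_of_tower, ← Pi.basisFun_apply]
    exact congrArg (z k • ·) (Module.Basis.constr_basis _ _ _ _)
  have hρ : ∀ j (z : Fin p → S j), ∃ (w : Fin p → R) (i : ℕ), a j ^ i • z = ρ j w := by
    intro j z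
    obtain ⟨⟨_, i, rfl⟩, hb⟩ :=
      IsLocalization.exist_integer_multiples_of_finite (Submonoid.powers (a j)) z
    choose w hw using hb
    exact ⟨w, i, by ext k; exact (hw k).symm⟩
  have hπj : ∀ j, Function.Surjective (πj j) := fun j y => by
    obtain ⟨⟨y', ⟨_, i, rfl⟩⟩, hy'⟩ := IsLocalizedModule.surj (Submonoid.powers (a j)) (l j) y
    obtain ⟨z, rfl⟩ := hπ y'
    have hu : IsUnit (algebraMap R (S j) (a j ^ i)) := IsLocalization.map_units (S j) (⟨a j ^ i, i, rfl⟩ : Submonoid.powers (a j))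
    refine ⟨(↑hu.unit⁻¹ : S j) • ρ j z, ?_⟩
    simp only [Submonoid.smul_def] at hy'
    rw [map_smul, hcomm, ← hy', ← algebraMap_smul (S j) (a j ^ i) y, ← mul_smul, IsUnit.val_inv_mul,
      one_smul]
  have hker := fun j => Pres.exists_ker_span ⟨φ j, ψ j, hex j, hψ j⟩ (πj j) (hπj j)
  choose G hG using hker
  have hlift : ∀ j k, ∃ w : Fin p → R, π w = 0 ∧ ∃ i : ℕ, a j ^ i • G j k = ρ j w := by
    intro j k
    obtain ⟨w, i, hw⟩ := hρ j (G j k)
    have h0 : πj j (G j k) = 0 := LinearMap.mem_ker.1 ((hG j).ge (Submodule.subset_span ⟨k, rfl⟩))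
    have h1 : l j (π w) = l j 0 := by
      rw [← hcomm, ← hw, map_zero, ← algebraMap_smul (S j) (a j ^ i) (G j k), map_smul, h0, smul_zero]
    obtain ⟨⟨_, i', rfl⟩, hi'⟩ := IsLocalizedModule.exists_of_eq (S := Submonoid.powers (a j)) (f := l j) h1
    simp only [Submonoid.smul_def, smul_zero] at hi'
    refine ⟨a j ^ i' • w, by rw [map_smul, hi'], i' + i, ?_⟩
    rw [pow_add, mul_smul, hw, map_smul]
  choose g hg0 i hgi using hlift
  refine ⟨fun q => g q.1 q.2, le_antisymm (fun z hz => ?_) (Submodule.span_le.2 ?_)⟩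
  · refine mem_of_forall_pow_smul_mem a ha _ z fun j => ?_
    have h1 : ρ j z ∈ LinearMap.ker (πj j) := by
      rw [LinearMap.mem_ker, hcomm, LinearMap.mem_ker.1 hz, map_zero]
    rw [hG] at h1
    have h2 : ρ j z ∈ Submodule.span (S j) (ρ j ''
        (Submodule.span R (Set.range fun q : (Σ j, Fin (m j) ⊕ Fin p) => g q.1 q.2) : Set (Fin p → R))) := by
      refine Submodule.span_le.2 ?_ h1
      rintro _ ⟨k, rfl⟩
      have hu : IsUnit (algebraMap R (S j) (a j ^ i j k)) :=
        IsLocalization.map_units (S j) (⟨a j ^ i j k, i j k, rfl⟩ : Submonoid.powers (a j))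
      have h3 : G j k = (↑hu.unit⁻¹ : S j) • ρ j (g j k) := by
        rw [← hgi, ← algebraMap_smul (S j) (a j ^ i j k) (G j k), ← mul_smul, IsUnit.val_inv_mul,
          one_smul]
      rw [h3]
      exact Submodule.smul_mem _ _ (Submodule.subset_span ⟨_, Submodule.subset_span ⟨⟨j, k⟩, rfl⟩, rfl⟩)
    obtain ⟨w, hw, ⟨_, t, rfl⟩, ht⟩ := exists_smul_eq_of_mem_span (Submonoid.powers (a j)) (ρ j) _ h2
    have h4 : ∀ k, ∃ c : ℕ, a j ^ c * (a j ^ t * z k) = a j ^ c * w k := fun k => by
      have h5 := congrFun ht k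
      simp only [Pi.smul_apply, ρ, LinearMap.pi_apply, LinearMap.comp_apply, LinearMap.proj_apply,
        Algebra.linearMap_apply, Algebra.smul_def, ← map_mul] at h5
      obtain ⟨⟨_, c, rfl⟩, hc⟩ := IsLocalization.exists_of_eq (M := Submonoid.powers (a j)) h5
      exact ⟨c, hc⟩
    choose c hc using h4
    refine ⟨(∑ k, c k) + t, ?_⟩
    have h6 : a j ^ ((∑ k, c k) + t) • z = a j ^ (∑ k, c k) • w := by
      ext k
      obtain ⟨d, hd⟩ : ∃ d, (∑ k, c k) = d + c k :=
        ⟨(∑ k, c k) - c k, (Nat.sub_add_cancel (Finset.single_le_sum (fun _ _ => Nat.zero_le _)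
          (Finset.mem_univ k))).symm⟩
      simp only [Pi.smul_apply, smul_eq_mul, hd, pow_add, mul_assoc, hc k]
    rw [h6]
    exact Submodule.smul_mem _ _ hw
  · rintro _ ⟨q, rfl⟩
    exact hg0 q.1 q.2

end local2global

/-- A product of boundedly presented modules is finitely presented over the product ring. -/
theorem finitePresentation_pi {ι : Type*} (R : ι → Type*) [∀ i, CommRing (R i)] (M : ι → Type*)
    [∀ i, AddCommGroup (M i)] [∀ i, Module (R i) (M i)] (p : ℕ) {Q : Type*} [Fintype Q]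
    (h : ∀ i, ∃ π : (Fin p → R i) →ₗ[R i] M i, Function.Surjective π ∧
      ∃ g : Q → (Fin p → R i), LinearMap.ker π = Submodule.span (R i) (Set.range g)) :
    Module.FinitePresentation (∀ i, R i) (∀ i, M i) := by
  choose π hπ g hg using h
  let piMap : (Fin p → ∀ i, R i) →ₗ[∀ i, R i] (∀ i, M i) :=
    { toFun := fun z i => π i fun k => z k i
      map_add' := fun z w => funext fun i => (π i).map_add (fun k => z k i) fun k => w k i
      map_smul' := fun r z => funext fun i => (π i).map_smul (r i) fun k => z k i }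
  refine Module.finitePresentation_of_surjective piMap (fun y => ?_) ?_
  · choose z hz using fun i => hπ i (y i)
    exact ⟨fun k i => z i k, funext hz⟩
  · let G : Q → (Fin p → ∀ i, R i) := fun q k i => g i q k
    have : LinearMap.ker piMap = Submodule.span _ (Set.range G) := by
      refine le_antisymm (fun z hz => ?_) (Submodule.span_le.2 ?_)
      · have h1 : ∀ i, ∃ c : Q → R i, ∑ q, c q • g i q = fun k => z k i := fun i =>
          (Submodule.mem_span_range_iff_exists_fun (R i)).1 ((hg i).le (congrFun hz i))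
        choose c hc using h1
        refine (Submodule.mem_span_range_iff_exists_fun _).2 ⟨fun q i => c i q, ?_⟩
        ext k i
        simpa [G, Finset.sum_apply] using congrFun (hc i) k
      · rintro _ ⟨q, rfl⟩
        exact funext fun i => LinearMap.mem_ker.1 ((hg i).ge (Submodule.subset_span ⟨q, rfl⟩))
    rw [this]
    exact Submodule.fg_span (Set.finite_range G)

end Groth.Agent.ProdFP7
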